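import Mathlib

/-! # Étale coordinates for a smooth algebra from a generating family of differentials -/

set_option backward.isDefEq.respectTransparency false
set_option backward.isDefEq.respectTransparency.types false

universe u

open TensorProduct

namespace Groth.Agent.SliceLib

theorem etale_of_bijective_mapBaseChange (A M B : Type u) [CommRing A] [CommRing M] [CommRing B]
    [Algebra A M] [Algebra A B] [Algebra M B] [IsScalarTower A M B] [Algebra.Smooth A B]
    [Algebra.FiniteType A M]
    (h : Function.Bijective (KaehlerDifferential.mapBaseChange A M B)) : Algebra.Etale M B := by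
  have h1 : Subsingleton (Ω[B⁄M]) := by
    refine subsingleton_of_forall_eq 0 fun y => ?_
    obtain ⟨x, rfl⟩ := KaehlerDifferential.map_surjective A M B y
    exact ((KaehlerDifferential.exact_mapBaseChange_map A M B) x).2 (h.2 x)
  have h2 : Subsingleton (Algebra.H1Cotangent M B) := by
    refine subsingleton_of_forall_eq 0 fun x => ?_
    have hx : Algebra.H1Cotangent.δ A M B x = 0 := h.1 (by
      rw [map_zero]
      exact (Algebra.H1Cotangent.exact_δ_mapBaseChange A M B _).2 ⟨x, rfl⟩)
    obtain ⟨y, rfl⟩ := (Algebra.H1Cotangent.exact_map_δ A M B x).1 hx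
    rw [Subsingleton.elim y 0, map_zero]
  have : Algebra.FormallyEtale M B := ⟨h1, h2⟩
  exact ⟨inferInstance, Algebra.FinitePresentation.of_restrict_scalars_finitePresentation A M B⟩

/-- A smooth algebra whose differentials have the `d (b i)` as a basis is étale over the polynomial
ring on the `b i`. -/
theorem etale_aeval_of_basis {A B : Type u} [CommRing A] [CommRing B] [Algebra A B] [Algebra.Smooth A B]
    {n : ℕ} (b : Fin n → B) (β : Module.Basis (Fin n) B (Ω[B⁄A]))
    (hβ : ∀ i, β i = KaehlerDifferential.D A B (b i)) :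
    (MvPolynomial.aeval (R := A) b).toRingHom.Etale := by
  let M := MvPolynomial (Fin n) A
  let : Algebra M B := (MvPolynomial.aeval b).toRingHom.toAlgebra
  have : IsScalarTower A M B := IsScalarTower.of_algebraMap_eq fun r =>
    ((MvPolynomial.aeval b).commutes r).symm
  let γ : Module.Basis (Fin n) B (B ⊗[M] Ω[M⁄A]) :=
    (KaehlerDifferential.mvPolynomialBasis A (Fin n)).baseChange B
  have he : γ.equiv β (Equiv.refl _) = (KaehlerDifferential.mapBaseChange A M B :
      B ⊗[M] Ω[M⁄A] →ₗ[B] Ω[B⁄A]) := by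
    refine γ.ext fun i => ?_
    have hb : KaehlerDifferential.mvPolynomialBasis A (Fin n) i =
        KaehlerDifferential.D A M (MvPolynomial.X i) :=
      (KaehlerDifferential.mvPolynomialBasis A (Fin n)).repr.injective (by
        rw [Module.Basis.repr_self, KaehlerDifferential.mvPolynomialBasis_repr_D_X])
    rw [LinearEquiv.coe_coe, Module.Basis.equiv_apply, Equiv.refl_apply, hβ]
    simp only [γ]
    erw [Module.Basis.baseChange_apply, hb]
    erw [KaehlerDifferential.mapBaseChange_tmul, one_smul, KaehlerDifferential.map_D]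
    exact congrArg _ (MvPolynomial.aeval_X b i).symm
  exact etale_of_bijective_mapBaseChange A M B (he ▸ (γ.equiv β (Equiv.refl _)).bijective)

/-- A derivation killing both structure maps of an "epimorphism" `A ⊗ A → B` vanishes; hence the
differentials of the second map generate. -/
theorem span_D_comp_eq_top {A A' B : Type u} [CommRing A] [CommRing A'] [CommRing B] [Algebra A B]
    (τ : A' →+* B)
    (hepi : ∀ (C : Type u) [CommRing C] (h₁ h₂ : B →+* C),
      h₁.comp (algebraMap A B) = h₂.comp (algebraMap A B) → h₁.comp τ = h₂.comp τ → h₁ = h₂) :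
    Submodule.span B (Set.range fun a => KaehlerDifferential.D A B (τ a)) = ⊤ := by
  set N := Submodule.span B (Set.range fun a => KaehlerDifferential.D A B (τ a))
  let Q := (Ω[B⁄A]) ⧸ N
  let δ : Derivation A B Q := N.mkQ.compDer (KaehlerDifferential.D A B)
  let _ : Module Bᵐᵒᵖ Q := Module.compHom Q ((RingHom.id B).fromOpposite mul_comm)
  have : IsCentralScalar B Q := ⟨fun r m => rfl⟩
  let h₁ : B →+* TrivSqZeroExt B Q := TrivSqZeroExt.inlHom B Q
  let h₂ : B →+* TrivSqZeroExt B Q :=
    { toFun := fun b => TrivSqZeroExt.inl b + TrivSqZeroExt.inr (δ b)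
      map_one' := by simp
      map_mul' := fun x y => by
        refine TrivSqZeroExt.ext ?_ ?_
        · simp
        · simp [add_comm]
      map_zero' := by simp
      map_add' := fun x y => by
        refine TrivSqZeroExt.ext ?_ ?_
        · simp
        · simp only [map_add, TrivSqZeroExt.snd_add, TrivSqZeroExt.snd_inl, TrivSqZeroExt.snd_inr]
          abel }
  have hσ : h₁.comp (algebraMap A B) = h₂.comp (algebraMap A B) := by
    refine RingHom.ext fun a => ?_
    show TrivSqZeroExt.inl (algebraMap A B a) =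
      TrivSqZeroExt.inl (algebraMap A B a) + TrivSqZeroExt.inr (δ (algebraMap A B a))
    rw [δ.map_algebraMap, TrivSqZeroExt.inr_zero, add_zero]
  have hτ : h₁.comp τ = h₂.comp τ := by
    refine RingHom.ext fun a => ?_
    show TrivSqZeroExt.inl (τ a) = TrivSqZeroExt.inl (τ a) + TrivSqZeroExt.inr (δ (τ a))
    have : δ (τ a) = 0 := (Submodule.Quotient.mk_eq_zero N).2 (Submodule.subset_span ⟨a, rfl⟩)
    rw [this, TrivSqZeroExt.inr_zero, add_zero]
  have h := hepi _ h₁ h₂ hσ hτ
  rw [eq_top_iff, ← KaehlerDifferential.span_range_derivation, Submodule.span_le]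
  rintro _ ⟨b, rfl⟩
  have hb : δ b = 0 := by
    have := congrArg TrivSqZeroExt.snd (RingHom.congr_fun h b)
    simpa [h₁, h₂] using this.symm
  exact (Submodule.Quotient.mk_eq_zero N).1 hb

/-- Étale coordinates near a prime, taken from the image of `τ`. -/
theorem exists_etale_coordinates {A A' B : Type u} [CommRing A] [CommRing A'] [CommRing B] [Algebra A B]
    [Algebra.Smooth A B] (τ : A' →+* B)
    (hepi : ∀ (C : Type u) [CommRing C] (h₁ h₂ : B →+* C),
      h₁.comp (algebraMap A B) = h₂.comp (algebraMap A B) → h₁.comp τ = h₂.comp τ → h₁ = h₂)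
    (p : Ideal B) [p.IsPrime] :
    ∃ g ∉ p, ∃ (n : ℕ) (a : Fin n → A'),
      (MvPolynomial.aeval (R := A) fun i => algebraMap B (Localization.Away g) (τ (a i))).toRingHom.Etale := by
  let Bp := Localization.AtPrime p
  let lp : Ω[B⁄A] →ₗ[B] Ω[Bp⁄A] := KaehlerDifferential.map A A B Bp
  have : Algebra.FormallySmooth A Bp := Algebra.FormallySmooth.comp A B Bp
  have hspan : Submodule.span Bp (Set.range fun a => lp (KaehlerDifferential.D A B (τ a))) = ⊤ := by
    have := span_eq_top_of_isLocalizedModule Bp p.primeCompl lp (span_D_comp_eq_top τ hepi)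
    rwa [← Set.range_comp] at this
  obtain ⟨κ, a, b, hb⟩ := Module.exists_basis_of_span_of_flat _ hspan
  let e : (κ →₀ B) →ₗ[B] Ω[B⁄A] :=
    Finsupp.linearCombination B fun i : κ => KaehlerDifferential.D A B (τ (a i))
  let l₁ : (κ →₀ B) →ₗ[B] (κ →₀ Bp) := Finsupp.mapRange.linearMap (Algebra.linearMap B Bp)
  let eₚ : (κ →₀ Bp) →ₗ[Bp] Ω[Bp⁄A] := IsLocalizedModule.mapExtendScalars p.primeCompl l₁ lp Bp e
  have : eₚ = b.repr.symm := by
    ext i
    trans IsLocalizedModule.map p.primeCompl l₁ lp e <| l₁ <| Finsupp.single i 1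
    · simp [eₚ, -IsLocalizedModule.map_apply, l₁]
    · simp [lp, e, hb]
  have heₚ : Function.Bijective eₚ := this ▸ b.repr.symm.bijective
  have : Finite κ := Module.Finite.finite_basis b
  obtain ⟨g, hg, h⟩ := Module.FinitePresentation.exists_notMem_bijective e p l₁ lp heₚ
  let Bg := Localization.Away g
  let l₁g : (κ →₀ B) →ₗ[B] (κ →₀ Bg) := Finsupp.mapRange.linearMap (Algebra.linearMap B _)
  let l₂g : Ω[B⁄A] →ₗ[B] Ω[Bg⁄A] := KaehlerDifferential.map A A B Bg
  rw [← IsLocalizedModule.map_bijective_iff_localizedModuleMap_bijective l₁g l₂g] at h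
  let eg : (κ →₀ Bg) →ₗ[Bg] Ω[Bg⁄A] :=
    IsLocalizedModule.mapExtendScalars (Submonoid.powers g) l₁g l₂g Bg e
  let βκ : Module.Basis κ Bg (Ω[Bg⁄A]) := .ofRepr (LinearEquiv.ofBijective eg h).symm
  obtain ⟨n, ⟨ε⟩⟩ := Finite.exists_equiv_fin κ
  have : Algebra.Smooth A Bg := Algebra.Smooth.comp A B Bg
  refine ⟨g, hg, n, fun i => a (ε.symm i), etale_aeval_of_basis _ (βκ.reindex ε) fun i => ?_⟩
  simp +zetaDelta [IsLocalizedModule.map_linearCombination]

end Groth.Agent.SliceLib
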