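import Groth.Agent.SliceLib.Slice
import Groth.Agent.AlgSpDec.FppfDescent
import Groth.Agent.AlgSpDec.Glue
import Groth.Agent.AlgSpLib.FpqcDescent

/-! # A sheaf with representable diagonal and a smooth atlas is an algebraic space -/

set_option backward.isDefEq.respectTransparency false
set_option backward.isDefEq.respectTransparency.types false

universe u

open CategoryTheory CategoryTheory.Limits AlgebraicGeometry Opposite AlgSp
open Groth.Agent.AlgSpLib Groth.Agent.AlgSpDec

namespace Groth.Agent.SliceLib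

variable {S : Scheme.{u}} {F : Sp S} {U : Over S} {p : (yon S).obj U ⟶ F}

theorem exists_point_of_over_isPullback {A B C D : Over S} {a : A ⟶ B} {b : A ⟶ C} {c : B ⟶ D}
    {d : C ⟶ D} (h : IsPullback a b c d) (x : ↥B.left) (y : ↥C.left) (e : c.left x = d.left y) :
    ∃ z : ↥A.left, a.left z = x ∧ b.left z = y := by
  have h' : IsPullback a.left b.left c.left d.left := h.map (Over.forget S)
  obtain ⟨z, hz₁, hz₂⟩ := Scheme.Pullback.exists_preimage_pullback x y e
  refine ⟨h'.isoPullback.inv z, ?_, ?_⟩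
  · rw [← Scheme.Hom.comp_apply, h'.isoPullback_inv_fst]; exact hz₁
  · rw [← Scheme.Hom.comp_apply, h'.isoPullback_inv_snd]; exact hz₂

/-- A morphism from a scheme which becomes étale after the base change along an fppf chart is étale. -/
theorem repWith_etale_of_chart {V : Over S} {c : (yon S).obj V ⟶ F} (hc : Representable c)
    (hp : RepWith fppf p) {X : Over S} {a : X ⟶ V} {q : X ⟶ U}
    (sq : IsPullback ((yon S).map a) ((yon S).map q) c p) (hq : Etale q.left) : RepWith @Etale c := by
  refine repWith_of_squares fun T g =>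
    ⟨hc.pullback g, hc.fst g, hc.snd g, hc.isPullback g, ?_⟩
  refine property_of_affine_flat_covers (P := @Etale) _ fun Z => ?_
  let Z₀ : Over S := Over.mk (Z.1.ι ≫ T.hom)
  let ιZ : Z₀ ⟶ T := Over.homMk Z.1.ι rfl
  have : IsAffine Z₀.left := Z.2
  obtain ⟨Z', π, v, hZ', hπf, -, hπs, hv⟩ := Fppf.exists_affine_cover_lift hp ((yon S).map ιZ ≫ g)
  refine ⟨1, fun _ => Z'.left, fun _ => π.left, fun _ => hZ', fun _ => hπf,
    fun z => ⟨0, hπs.surj z⟩, fun _ => ?_⟩
  let P := hc.pullback g
  let f : P ⟶ T := hc.snd g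
  have hQ : IsPullback (pullback.fst f (π ≫ ιZ)) (pullback.snd f (π ≫ ιZ)) f (π ≫ ιZ) :=
    IsPullback.of_hasPullback _ _
  have s₁ : IsPullback ((yon S).map (pullback.fst f (π ≫ ιZ)) ≫ hc.fst g)
      ((yon S).map (pullback.snd f (π ≫ ιZ))) c ((yon S).map v ≫ p) := by
    have := (hQ.map (yon S)).paste_horiz (hc.isPullback g)
    rwa [Functor.map_comp, Category.assoc, hv] at this
  obtain ⟨l, hl⟩ := (yon S).map_surjective (sq.lift ((yon S).map (pullback.fst f (π ≫ ιZ)) ≫ hc.fst g)
    ((yon S).map (pullback.snd f (π ≫ ιZ)) ≫ (yon S).map v) (by rw [s₁.w, Category.assoc]))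
  have s₂ : IsPullback ((yon S).map l) ((yon S).map (pullback.snd f (π ≫ ιZ))) ((yon S).map q)
      ((yon S).map v) := by
    refine IsPullback.of_right ?_ (by rw [hl, IsPullback.lift_snd]) sq
    rw [hl, IsPullback.lift_fst]
    exact s₁
  have s₃ : IsPullback l.left (pullback.snd f (π ≫ ιZ)).left q.left v.left :=
    (IsPullback.of_map_of_faithful (yon S) s₂).map (Over.forget S)
  have he : Etale (pullback.snd f (π ≫ ιZ)).left := MorphismProperty.of_isPullback (P := @Etale) s₃ hq
  have e : IsPullback (pullback.fst f (π ≫ ιZ)).left (pullback.snd f (π ≫ ιZ)).left f.left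
      (π.left ≫ Z.1.ι) := hQ.map (Over.forget S)
  rw [← e.isoPullback_hom_snd] at he
  exact (MorphismProperty.cancel_left_of_respectsIso (P := @Etale) e.isoPullback.hom _).1 he

/-- Through every point of a smooth chart passes an étale slice. -/
theorem exists_slice_chart (hdiag : Representable (Limits.diag F)) (hp : RepWith @Smooth p)
    (hp' : RepWith @Surjective p) (u : ↥U.left) :
    ∃ (V : Over S) (c : (yon S).obj V ⟶ F) (X : Over S) (a : X ⟶ V) (q : X ⟶ U) (x : ↥X.left),
      IsPullback ((yon S).map a) ((yon S).map q) c p ∧ Etale q.left ∧ q.left x = u ∧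
        RepWith @Etale c := by
  let R := hp.rep.pullback p
  let t : R ⟶ U := hp.rep.fst' p
  let s : R ⟶ U := hp.rep.snd p
  have sqR : IsPullback ((yon S).map t) ((yon S).map s) p p := hp.rep.isPullback' p
  have hs : Smooth s.left := hp.property_snd p
  have ht : Smooth t.left := hp.2 p _ _ sqR.flip
  have hpf : RepWith fppf p := ⟨hp.rep, fun {A B} g fst snd h => by
    have : Smooth ((Over.forget S).map snd) := hp.2 g fst snd h
    exact ⟨⟨hp'.2 g fst snd h, inferInstance⟩, inferInstance⟩⟩
  have hmono : ∀ {T : Scheme.{u}} (h₁ h₂ : T ⟶ R.left),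
      h₁ ≫ t.left = h₂ ≫ t.left → h₁ ≫ s.left = h₂ ≫ s.left → h₁ = h₂ := by
    intro T h₁ h₂ e₁ e₂
    have hR : h₁ ≫ R.hom = h₂ ≫ R.hom := by rw [← Over.w s, reassoc_of% e₂]
    let k₁ : Over.mk (h₁ ≫ R.hom) ⟶ R := Over.homMk h₁ rfl
    let k₂ : Over.mk (h₁ ≫ R.hom) ⟶ R := Over.homMk h₂ hR.symm
    have : (yon S).map k₁ = (yon S).map k₂ := sqR.hom_ext
      (by rw [← Functor.map_comp, ← Functor.map_comp]; exact congrArg _ (Over.OverMorphism.ext e₁))
      (by rw [← Functor.map_comp, ← Functor.map_comp]; exact congrArg _ (Over.OverMorphism.ext e₂))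
    exact congrArg CommaMorphism.left ((yon S).map_injective this)
  obtain ⟨e, he⟩ := (yon S).map_surjective (sqR.lift (𝟙 _) (𝟙 _) rfl)
  have hes : e ≫ s = 𝟙 U := (yon S).map_injective (by
    rw [Functor.map_comp, he, IsPullback.lift_snd, CategoryTheory.Functor.map_id])
  let r : ↥R.left := e.left u
  have hsr : s.left r = u := by
    rw [← Scheme.Hom.comp_apply, ← Over.comp_left, hes]; rfl
  obtain ⟨W, w, E, z, hw, hzE, hz, hE⟩ := exists_slice_scheme t.left s.left hmono r
  let Wv : Over S := Over.mk (w ≫ U.hom)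
  let wO : Wv ⟶ U := Over.homMk w rfl
  let XO : Over S := Over.mk (pullback.snd w t.left ≫ R.hom)
  let a : XO ⟶ Wv := Over.homMk (pullback.fst w t.left) (by
    show pullback.fst w t.left ≫ w ≫ U.hom = pullback.snd w t.left ≫ R.hom
    rw [pullback.condition_assoc, Over.w t])
  let b : XO ⟶ R := Over.homMk (pullback.snd w t.left) rfl
  have sqA : IsPullback a b wO t :=
    IsPullback.of_map (Over.forget S) (Over.OverMorphism.ext pullback.condition)
      (IsPullback.of_hasPullback w t.left)
  let q : XO ⟶ U := b ≫ s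
  let c₀ : (yon S).obj Wv ⟶ F := (yon S).map wO ≫ p
  have sq₀ : IsPullback ((yon S).map a) ((yon S).map q) c₀ p := by
    have := (sqA.map (yon S)).paste_vert sqR
    rwa [← Functor.map_comp] at this
  -- translations
  let X₂ := pullback a a
  let π₁ : X₂ ⟶ XO := pullback.fst a a
  let π₂ : X₂ ⟶ XO := pullback.snd a a
  have hπ : IsPullback ((yon S).map π₁) ((yon S).map π₂) ((yon S).map a) ((yon S).map a) :=
    (IsPullback.of_hasPullback a a).map (yon S)
  have hπ' : IsPullback ((yon S).map π₁) ((yon S).map π₂ ≫ (yon S).map q) ((yon S).map q ≫ p) p := by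
    rw [← sq₀.w]
    exact hπ.paste_vert sq₀
  have hπ'' : IsPullback ((yon S).map π₂) ((yon S).map π₁ ≫ (yon S).map q) ((yon S).map q ≫ p) p := by
    rw [← sq₀.w]
    exact hπ.flip.paste_vert sq₀
  obtain ⟨ρ, hρ⟩ := (yon S).map_surjective
    (sqR.lift ((yon S).map π₁ ≫ (yon S).map q) ((yon S).map π₂ ≫ (yon S).map q)
      (by rw [Category.assoc, hπ'.w]))
  have hρ₁ : (yon S).map π₁ ≫ (yon S).map q = (yon S).map ρ ≫ (yon S).map t := by
    rw [hρ, IsPullback.lift_fst]
  have hρ₂ : (yon S).map π₂ ≫ (yon S).map q = (yon S).map ρ ≫ (yon S).map s := by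
    rw [hρ, IsPullback.lift_snd]
  have p₁ : IsPullback π₁.left ρ.left q.left t.left := by
    refine (IsPullback.of_map_of_faithful (yon S) (IsPullback.of_bot ?_ hρ₁ sqR)).map (Over.forget S)
    rw [← hρ₂]
    exact hπ'
  have p₂ : IsPullback π₂.left ρ.left q.left s.left := by
    refine (IsPullback.of_map_of_faithful (yon S) (IsPullback.of_bot ?_ hρ₂ sqR.flip)).map (Over.forget S)
    rw [← hρ₁]
    exact hπ''
  -- the open part of the slice
  have : Smooth a.left := MorphismProperty.of_isPullback (P := @Smooth)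
    (IsPullback.of_hasPullback w t.left).flip ht
  let W' : Wv.left.Opens := ⟨a.left '' (E : Set ↥(pullback w t.left)), a.left.isOpenMap _ E.2⟩
  have : LocallyOfFinitePresentation q.left := by
    have : LocallyOfFinitePresentation b.left := MorphismProperty.of_isPullback
      (P := @LocallyOfFinitePresentation) (IsPullback.of_hasPullback w t.left) hw
    show LocallyOfFinitePresentation (b.left ≫ s.left)
    infer_instance
  let X' : XO.left.Opens := a.left ⁻¹ᵁ W'
  have hO₂ : Etale ((π₁.left ⁻¹ᵁ E).ι ≫ ρ.left) :=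
    MorphismProperty.of_isPullback (P := @Etale)
      ((isPullback_morphismRestrict π₁.left E).paste_vert p₁) hE
  obtain ⟨O', hO', hO'et⟩ := exists_opens_etale_image p₂ (π₁.left ⁻¹ᵁ E) hO₂
  have hX' : X' ≤ O' := by
    rintro x ⟨z₀, hz₀, hzx⟩
    obtain ⟨z₂, h₁, h₂⟩ := exists_point_of_over_isPullback (IsPullback.of_hasPullback a a) z₀ x hzx
    show x ∈ (O' : Set ↥XO.left)
    rw [hO']
    exact ⟨z₂, show π₁.left z₂ ∈ E from h₁.symm ▸ hz₀, h₂⟩
  have hq' : Etale (X'.ι ≫ q.left) := by
    rw [← XO.left.homOfLE_ι hX', Category.assoc]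
    infer_instance
  let V : Over S := Over.mk (W'.ι ≫ Wv.hom)
  let jV : V ⟶ Wv := Over.homMk W'.ι rfl
  let X : Over S := Over.mk (X'.ι ≫ XO.hom)
  let jX : X ⟶ XO := Over.homMk X'.ι rfl
  let a' : X ⟶ V := Over.homMk (a.left ∣_ W') (by
    show (a.left ∣_ W') ≫ W'.ι ≫ Wv.hom = X'.ι ≫ XO.hom
    rw [morphismRestrict_ι_assoc, Over.w a])
  have sqr : IsPullback a' jX jV a := IsPullback.of_map (Over.forget S)
    (Over.OverMorphism.ext (morphismRestrict_ι a.left W')) (isPullback_morphismRestrict a.left W')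
  have sq : IsPullback ((yon S).map a') ((yon S).map (jX ≫ q)) ((yon S).map jV ≫ c₀) p := by
    rw [Functor.map_comp]
    exact (sqr.map (yon S)).paste_vert sq₀
  exact ⟨V, _, X, a', jX ≫ q, ⟨z, z, hzE, rfl⟩, sq, hq', (hz.trans hsr),
    repWith_etale_of_chart (Functor.relativelyRepresentable.of_diag hdiag _) hpf sq hq'⟩

/-- A sheaf with representable diagonal and a smooth surjective chart is an algebraic space. -/
theorem isAlgSpace_of_smooth_atlas (hdiag : Representable (Limits.diag F)) (hp : RepWith @Smooth p)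
    (hp' : RepWith @Surjective p) : IsAlgSpace F := by
  choose V c X a q x sq hq hx hc using fun u => exists_slice_chart hdiag hp hp' u
  obtain ⟨G, hG⟩ := exists_hom_sigma V c
  have hrep : Representable G := Functor.relativelyRepresentable.of_diag hdiag G
  refine ⟨hdiag, sigmaOver V, G, repWith_of_squares fun T g =>
    ⟨hrep.pullback g, hrep.fst g, hrep.snd g, hrep.isPullback g, ?_⟩, repWith_of_squares fun T g =>
    ⟨hrep.pullback g, hrep.fst g, hrep.snd g, hrep.isPullback g, ⟨fun t => ?_⟩⟩⟩
  · let f := hrep.fst' g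
    refine IsZariskiLocalAtSource.of_openCover (P := @Etale)
      ((sigmaOpenCover fun i => (V i).left).pullback₁ f.left) fun i => ?_
    let Y := pullback f (sigmaι V i)
    have hY : IsPullback ((yon S).map (pullback.snd f (sigmaι V i)))
        ((yon S).map (pullback.fst f (sigmaι V i)) ≫ (yon S).map (hrep.snd g)) (c i) g := by
      rw [← hG i]
      exact (((IsPullback.of_hasPullback f (sigmaι V i)).map (yon S)).flip.paste_vert
        (hrep.isPullback' g))
    rw [← Functor.map_comp] at hY
    have het : Etale ((pullback.fst f (sigmaι V i)).left ≫ (hrep.snd g).left) := (hc i).2 g _ _ hY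
    have e : IsPullback (pullback.fst f (sigmaι V i)).left (pullback.snd f (sigmaι V i)).left
        f.left (Sigma.ι (fun i => (V i).left) i) :=
      (IsPullback.of_hasPullback f (sigmaι V i)).map (Over.forget S)
    rw [← e.isoPullback_hom_fst, Category.assoc] at het
    exact (MorphismProperty.cancel_left_of_respectsIso (P := @Etale) e.isoPullback.hom _).1 het
  · obtain ⟨t', ht'⟩ := (hp'.property_snd g).surj t
    let i := (hp'.rep.fst' g).left t'
    obtain ⟨y, hy₁, hy₂⟩ := exists_point_of_over_isPullback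
      (IsPullback.of_hasPullback (q i) (hp'.rep.fst' g)) (x i) t' (hx i)
    let Y := pullback (q i) (hp'.rep.fst' g)
    let l : Y ⟶ hrep.pullback g :=
      hrep.lift' (pullback.fst (q i) (hp'.rep.fst' g) ≫ a i ≫ sigmaι V i)
        (pullback.snd (q i) (hp'.rep.fst' g) ≫ hp'.rep.snd g) (by
          rw [Functor.map_comp, Functor.map_comp, Category.assoc, Category.assoc, hG, (sq i).w,
            ← Functor.map_comp_assoc, pullback.condition, Functor.map_comp, Functor.map_comp,
            Category.assoc, Category.assoc, (hp'.rep.isPullback' g).w])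
    refine ⟨l.left y, ?_⟩
    rw [← Scheme.Hom.comp_apply, ← Over.comp_left, Functor.relativelyRepresentable.lift'_snd,
      Over.comp_left, Scheme.Hom.comp_apply, hy₂]
    exact ht'

end Groth.Agent.SliceLib
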