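import Groth.Agent.SliceLib.Ring

/-! # Choosing an étale-over-`ℤ` slice through a fibre -/

set_option backward.isDefEq.respectTransparency false
set_option backward.isDefEq.respectTransparency.types false

universe u

open TensorProduct

namespace Groth.Agent.SliceLib

/-- The integers in universe `u` (a synonym, so that no scalar actions are inherited). -/
def ZZ : Type u := ULift.{u} ℤ

instance : CommRing ZZ.{u} := inferInstanceAs (CommRing (ULift.{u} ℤ))

/-- The canonical ring equivalence. -/
def ZZ.equiv : ZZ.{u} ≃+* ℤ := ULift.ringEquiv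

theorem ZZ.hom_ext {A : Type u} [Ring A] (f g : ZZ.{u} →+* A) : f = g := by
  refine RingHom.ext fun x => ?_
  have h := (f.comp ZZ.equiv.symm.toRingHom).ext_int (g.comp ZZ.equiv.symm.toRingHom)
  exact RingHom.congr_fun h x.down

/-- A nonzero polynomial over an algebraically closed field has a non-zero at a point with values in
an étale `ℤ`-algebra (tuples of roots of unity of order prime to the characteristic). -/
theorem exists_etale_int_point {Ω : Type u} [Field Ω] [IsAlgClosed Ω] {n : ℕ}
    (f : MvPolynomial (Fin n) Ω) (hf : f ≠ 0) :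
    ∃ (D : Type u) (_ : CommRing D) (_ : Algebra ZZ.{u} D),
      Algebra.Etale ZZ.{u} D ∧ ∃ (c : Fin n → D) (ψ : D →+* Ω),
        MvPolynomial.eval (fun i => ψ (c i)) f ≠ 0 := by
  classical
  obtain ⟨p, hp⟩ := CharP.exists Ω
  obtain ⟨N, hNb, hN⟩ := Nat.exists_infinite_primes (Finset.univ.sup (fun i => f.degreeOf i) + p + 2)
  have hNΩ : (N : Ω) ≠ 0 := by
    intro h
    have hdvd : p ∣ N := (CharP.cast_eq_zero_iff Ω p N).1 h
    rcases (Nat.Prime.eq_one_or_self_of_dvd hN p hdvd) with h1 | h1
    · exact CharP.char_ne_one Ω p h1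
    · omega
  have : NeZero (N : Ω) := ⟨hNΩ⟩
  obtain ⟨ζ, hζ⟩ := IsAlgClosed.exists_root (Polynomial.cyclotomic N Ω) (by
    rw [Polynomial.degree_cyclotomic]
    exact_mod_cast (Nat.totient_pos.2 hN.pos).ne')
  have hprim : IsPrimitiveRoot ζ N := Polynomial.isRoot_cyclotomic_iff.1 hζ
  let R := ZZ.{u}
  let : Algebra R Ω := ((Int.castRingHom Ω).comp ZZ.equiv.toRingHom).toAlgebra
  let P : StandardEtalePair R :=
    { f := Polynomial.X ^ N - 1
      monic_f := Polynomial.monic_X_pow_sub_C 1 hN.ne_zero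
      g := Polynomial.derivative (Polynomial.X ^ N - 1)
      cond := ⟨1, 0, 1, by simp⟩ }
  have hmap : P.HasMap ζ := by
    refine ⟨?_, ?_⟩
    · show Polynomial.aeval ζ (Polynomial.X ^ N - 1 : Polynomial R) = 0
      simp [hprim.pow_eq_one]
    · show IsUnit (Polynomial.aeval ζ (Polynomial.derivative (Polynomial.X ^ N - 1 : Polynomial R)))
      simp only [Polynomial.derivative_sub, Polynomial.derivative_one, sub_zero,
        Polynomial.derivative_X_pow, map_mul, map_pow, Polynomial.aeval_X,
        map_natCast]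
      exact IsUnit.mk0 _ (mul_ne_zero hNΩ (pow_ne_zero _ (hprim.ne_zero hN.ne_zero)))
  let ψ : P.Ring →ₐ[R] Ω := P.lift ζ hmap
  let T : Finset Ω := (Finset.range N).image (ζ ^ ·)
  have hT : T.card = N := by
    rw [Finset.card_image_of_injOn, Finset.card_range]
    intro i hi j hj h
    exact hprim.pow_inj (Finset.mem_range.1 hi) (Finset.mem_range.1 hj) h
  obtain ⟨x, hxT, hx⟩ : ∃ x : Fin n → Ω, (∀ i, x i ∈ T) ∧ MvPolynomial.eval x f ≠ 0 := by
    by_contra h
    push Not at h
    refine hf (MvPolynomial.eq_zero_of_eval_zero_at_prod_finset f (fun _ => T) (fun i => ?_) h)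
    rw [hT]
    have := Finset.le_sup (f := fun i => f.degreeOf i) (Finset.mem_univ i)
    omega
  choose j hj hjx using fun i => Finset.mem_image.1 (hxT i)
  refine ⟨P.Ring, inferInstance, inferInstance, inferInstance, fun i => P.X ^ j i, ψ.toRingHom, ?_⟩
  have : (fun i => ψ.toRingHom (P.X ^ j i)) = x := funext fun i => by
    show ψ (P.X ^ j i) = x i
    rw [map_pow, StandardEtalePair.lift_X, ← hjx i]
  rwa [this]

/-- The slice: given étale coordinates `τ ∘ a` on `B` over `A`, some `D` étale over `ℤ` with a tuple `c`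
meets the fibre over the contraction of a given prime. -/
theorem exists_slice {A B : Type u} [CommRing A] [CommRing B] [Algebra A B] {n : ℕ} (b : Fin n → B)
    (hb : (MvPolynomial.aeval (R := A) b).toRingHom.Etale) (q : Ideal B) [q.IsPrime] :
    ∃ (D : Type u) (_ : CommRing D) (_ : Algebra ZZ.{u} D) (c : Fin n → D),
      Algebra.Etale ZZ.{u} D ∧ ∃ (Ω : Type u) (_ : Field Ω) (ρ : B →+* Ω) (ψ : D →+* Ω),
        (∀ i, ψ (c i) = ρ (b i)) ∧
          RingHom.ker (ρ.comp (algebraMap A B)) = q.comap (algebraMap A B) := by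
  classical
  let M := MvPolynomial (Fin n) A
  let : Algebra M B := (MvPolynomial.aeval b).toRingHom.toAlgebra
  have : IsScalarTower A M B := IsScalarTower.of_algebraMap_eq fun r =>
    ((MvPolynomial.aeval b).commutes r).symm
  have : Algebra.Etale M B := hb
  let p : Ideal A := q.comap (algebraMap A B)
  let Ω₀ := AlgebraicClosure p.ResidueField
  let θ : A →+* Ω₀ := (algebraMap p.ResidueField Ω₀).comp (algebraMap A p.ResidueField)
  have hθ : RingHom.ker θ = p := by
    ext a
    rw [RingHom.mem_ker]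
    show algebraMap p.ResidueField Ω₀ (algebraMap A p.ResidueField a) = 0 ↔ _
    rw [map_eq_zero, Ideal.algebraMap_residueField_eq_zero]
  have hflat : Module.Flat M B := Algebra.Smooth.flat M B
  have hopen : IsOpen (Set.range (PrimeSpectrum.comap (algebraMap M B))) :=
    (PrimeSpectrum.isOpenMap_comap_of_hasGoingDown_of_finitePresentation).isOpen_range
  obtain ⟨_, ⟨f, rfl⟩, hq, hsub⟩ := PrimeSpectrum.isTopologicalBasis_basic_opens.exists_subset_of_mem_open
    (Set.mem_range_self (⟨q, inferInstance⟩ : PrimeSpectrum B)) hopen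
  have hf : MvPolynomial.map θ f ≠ 0 := by
    intro h0
    apply hq
    have hfC : f ∈ p.map (MvPolynomial.C : A →+* M) := MvPolynomial.mem_map_C_iff.2 fun m => by
      rw [← hθ, RingHom.mem_ker, ← MvPolynomial.coeff_map, h0, MvPolynomial.coeff_zero]
    have hle : p.map (MvPolynomial.C : A →+* M) ≤ q.comap (algebraMap M B) := by
      rw [Ideal.map_le_iff_le_comap]
      intro a ha
      show algebraMap M B (MvPolynomial.C a) ∈ q
      rw [← MvPolynomial.algebraMap_eq, ← IsScalarTower.algebraMap_apply]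
      exact ha
    exact hle hfC
  obtain ⟨D, _, _, hD, c, ψ₀, hev⟩ := exists_etale_int_point _ hf
  let ev : M →+* Ω₀ := MvPolynomial.eval₂Hom θ (fun i => ψ₀ (c i))
  let : Algebra M Ω₀ := ev.toAlgebra
  let P : PrimeSpectrum M := ⟨RingHom.ker ev, RingHom.ker_isPrime ev⟩
  have hP : P ∈ (PrimeSpectrum.basicOpen f : Set (PrimeSpectrum M)) := by
    intro hm
    exact hev (by
      have h : ev f = 0 := hm
      rw [MvPolynomial.eval_map]
      exact h)
  obtain ⟨q', hq'⟩ := hsub hP
  have : P.asIdeal.IsPrime := P.2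
  have : q'.asIdeal.IsPrime := q'.2
  let k := P.asIdeal.ResidueField
  let e₁ : k →+* Ω₀ := Ideal.ResidueField.lift P.asIdeal ev le_rfl fun x hx => IsUnit.mk0 _ hx
  let e₂ : k →ₐ[M] q'.asIdeal.ResidueField :=
    Ideal.ResidueField.mapₐ P.asIdeal q'.asIdeal (Algebra.ofId M B) (congrArg PrimeSpectrum.asIdeal hq').symm
  let : Algebra k Ω₀ := e₁.toAlgebra
  let : Algebra k q'.asIdeal.ResidueField := e₂.toRingHom.toAlgebra
  have : IsScalarTower M k Ω₀ := IsScalarTower.of_algebraMap_eq fun r =>
    (Ideal.ResidueField.lift_algebraMap ..).symm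
  have : IsScalarTower M k q'.asIdeal.ResidueField := IsScalarTower.of_algebraMap_eq fun r =>
    (e₂.commutes r).symm
  have : Nontrivial (q'.asIdeal.ResidueField ⊗[k] Ω₀) :=
    Algebra.TensorProduct.nontrivial_of_algebraMap_injective_of_isDomain k _ _
      (RingHom.injective _) (RingHom.injective _)
  obtain ⟨m, hm⟩ := Ideal.exists_maximal (q'.asIdeal.ResidueField ⊗[k] Ω₀)
  let : Field ((q'.asIdeal.ResidueField ⊗[k] Ω₀) ⧸ m) := Ideal.Quotient.field m
  let mk := Ideal.Quotient.mk m
  let i₁ : q'.asIdeal.ResidueField →+* q'.asIdeal.ResidueField ⊗[k] Ω₀ :=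
    Algebra.TensorProduct.includeLeftRingHom
  let i₂ : Ω₀ →+* q'.asIdeal.ResidueField ⊗[k] Ω₀ :=
    (Algebra.TensorProduct.includeRight (R := k) (A := q'.asIdeal.ResidueField) (B := Ω₀)).toRingHom
  let ρ := (mk.comp i₁).comp (algebraMap B q'.asIdeal.ResidueField)
  have key : ∀ x : M, ρ (algebraMap M B x) = mk (i₂ (ev x)) := fun x => by
    show mk (i₁ (algebraMap B q'.asIdeal.ResidueField (algebraMap M B x))) = mk (i₂ (algebraMap M Ω₀ x))
    rw [← IsScalarTower.algebraMap_apply, IsScalarTower.algebraMap_apply M k q'.asIdeal.ResidueField,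
      IsScalarTower.algebraMap_apply M k Ω₀]
    exact congrArg mk (RingHom.congr_fun (Algebra.TensorProduct.includeLeftRingHom_comp_algebraMap (R := k) (A := q'.asIdeal.ResidueField) (B := Ω₀)) (algebraMap M k x))
  refine ⟨D, inferInstance, inferInstance, c, hD, _, inferInstance, ρ, (mk.comp i₂).comp ψ₀,
    fun i => ?_, ?_⟩
  · have h := key (MvPolynomial.X i)
    rw [show algebraMap M B (MvPolynomial.X i) = b i from MvPolynomial.aeval_X b i,
      show ev (MvPolynomial.X i) = ψ₀ (c i) from MvPolynomial.eval₂Hom_X' _ _ _] at h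
    exact h.symm
  · ext a
    rw [RingHom.mem_ker, RingHom.comp_apply, IsScalarTower.algebraMap_apply A M B, key,
      MvPolynomial.algebraMap_eq, show ev (MvPolynomial.C a) = θ a from MvPolynomial.eval₂Hom_C _ _ _,
      ← RingHom.comp_apply mk i₂, map_eq_zero, ← RingHom.mem_ker, hθ]

end Groth.Agent.SliceLib
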