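import Groth.Agent.SliceLib.Point
import Groth.Agent.S4599
import Groth.Agent.SmallFlat.Misc
import Mathlib.AlgebraicGeometry.Morphisms.Etale
import Mathlib.AlgebraicGeometry.Morphisms.UniversallyOpen

/-! # Slicing a smooth groupoid: the scheme-level statements -/

set_option backward.isDefEq.respectTransparency false
set_option backward.isDefEq.respectTransparency.types false

universe u

open CategoryTheory CategoryTheory.Limits AlgebraicGeometry TensorProduct

namespace Groth.Agent.SliceLib

/-- Cancelling a flat surjection. -/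
theorem flat_of_flat_comp {P Q R : Scheme.{u}} (p : P ⟶ Q) (q : Q ⟶ R) [Flat p] [Surjective p]
    (h : Flat (p ≫ q)) : Flat q := by
  refine Flat.of_stalkMap q fun y => ?_
  obtain ⟨x, rfl⟩ := p.surjective y
  have h1 := Flat.stalkMap (p ≫ q) x
  rw [Scheme.Hom.stalkMap_comp] at h1
  have h2 := Flat.stalkMap p x
  algebraize [(p.stalkMap x).hom, (q.stalkMap (p.base x)).hom, (p.stalkMap x).hom.comp (q.stalkMap (p.base x)).hom]
  have : Module.Flat (R.presheaf.stalk (q.base (p.base x))) (P.presheaf.stalk x) := h1
  have : IsLocalHom (algebraMap (Q.presheaf.stalk (p.base x)) (P.presheaf.stalk x)) :=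
    inferInstanceAs (IsLocalHom (p.stalkMap x).hom)
  have : Module.FaithfullyFlat (Q.presheaf.stalk (p.base x)) (P.presheaf.stalk x) :=
    Module.FaithfullyFlat.of_flat_of_isLocalHom
  exact SmallFlat.flat_of_faithfullyFlat_tower (R.presheaf.stalk (q.base (p.base x))) (Q.presheaf.stalk (p.base x))
    (P.presheaf.stalk x)

theorem property_of_comp_mono (P : MorphismProperty Scheme.{u}) [P.IsStableUnderBaseChange]
    {A B C : Scheme.{u}} (f : A ⟶ B) (m : B ⟶ C) [Mono m] (h : P (f ≫ m)) : P f := by
  have sq : IsPullback f (𝟙 A) m (f ≫ m) :=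
    ⟨⟨by rw [Category.id_comp]⟩, ⟨PullbackCone.IsLimit.mk _ (fun s => s.snd)
      (fun s => by rw [← cancel_mono m, Category.assoc]; exact s.condition.symm)
      (fun s => Category.comp_id _) (fun s l _ h₂ => by simpa using h₂)⟩⟩
  exact MorphismProperty.of_isPullback (P := P) sq.flip h

/-- The etale locus descends along a flat base change which is locally of finite presentation. -/
theorem exists_opens_etale_image {X Y X' Y' : Scheme.{u}} {f : X ⟶ Y} [LocallyOfFinitePresentation f]
    {g : Y' ⟶ Y} [Flat g] [LocallyOfFinitePresentation g] {pX : X' ⟶ X} {f' : X' ⟶ Y'}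
    (sq : IsPullback pX f' f g) (O : X'.Opens) (hO : Etale (O.ι ≫ f')) :
    ∃ O' : X.Opens, (O' : Set X) = pX '' (O : Set X') ∧ Etale (O'.ι ≫ f) := by
  have : Flat pX := MorphismProperty.of_isPullback (P := @Flat) sq.flip inferInstance
  have : LocallyOfFinitePresentation pX :=
    MorphismProperty.of_isPullback (P := @LocallyOfFinitePresentation) sq.flip inferInstance
  let O' : X.Opens := ⟨pX '' (O : Set X'), pX.isOpenMap _ O.2⟩
  refine ⟨O', rfl, ?_⟩
  let h : O.toScheme ⟶ O'.toScheme := IsOpenImmersion.lift O'.ι (O.ι ≫ pX) (by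
    rintro _ ⟨z, rfl⟩
    rw [Scheme.Opens.range_ι]
    exact ⟨O.ι z, z.2, rfl⟩)
  have hh : h ≫ O'.ι = O.ι ≫ pX := IsOpenImmersion.lift_fac _ _ _
  have : Surjective h := ⟨by
    rintro ⟨_, z, hz, rfl⟩
    refine ⟨⟨z, hz⟩, ?_⟩
    apply O'.ι.isOpenEmbedding.injective
    rw [← Scheme.Hom.comp_apply, hh]
    rfl⟩
  have : Flat h := property_of_comp_mono @Flat h O'.ι (by rw [hh]; infer_instance)
  let k := O'.ι ≫ f
  have hk : h ≫ k = (O.ι ≫ f') ≫ g := by
    rw [← Category.assoc, hh, Category.assoc, sq.w, Category.assoc]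
  have : Flat k := flat_of_flat_comp h k (by rw [hk]; infer_instance)
  -- the diagonal
  let M : pullback f' f' ⟶ pullback f f :=
    pullback.map f' f' f f pX pX g sq.w.symm sq.w.symm
  have hMflat : Flat M := by
    have h₁ : IsPullback (pullback.snd f' f' ≫ pX) (pullback.fst f' f') f (f' ≫ g) :=
      (IsPullback.of_hasPullback f' f').flip.paste_horiz sq
    have h₂ : IsPullback (M ≫ pullback.snd f f) (pullback.fst f' f') f (pX ≫ f) := by
      rw [pullback.lift_snd, sq.w]
      exact h₁
    have h₃ : IsPullback M (pullback.fst f' f') (pullback.fst f f) pX :=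
      IsPullback.of_right h₂ (pullback.lift_fst _ _ _) (IsPullback.of_hasPullback f f).flip
    exact MorphismProperty.of_isPullback (P := @Flat) h₃.flip inferInstance
  let m : pullback k k ⟶ pullback f f :=
    pullback.map k k f f O'.ι O'.ι (𝟙 Y) (Category.comp_id _) (Category.comp_id _)
  have : Mono m := by unfold m; infer_instance
  let j : pullback (O.ι ≫ f') (O.ι ≫ f') ⟶ pullback f' f' :=
    pullback.map _ _ f' f' O.ι O.ι (𝟙 Y') (Category.comp_id _) (Category.comp_id _)
  have hj : IsOpenImmersion j := by unfold j; infer_instance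
  have hdiag : h ≫ (pullback.diagonal k ≫ m) = pullback.diagonal (O.ι ≫ f') ≫ j ≫ M := by
    apply pullback.hom_ext <;>
      simp only [m, j, M, Category.assoc, pullback.lift_fst, pullback.lift_snd, pullback.diagonal_fst_assoc,
        pullback.diagonal_snd_assoc, pullback.lift_fst_assoc, pullback.lift_snd_assoc] <;>
      exact hh
  have : Flat (pullback.diagonal k ≫ m) := flat_of_flat_comp h _ (by rw [hdiag]; infer_instance)
  have : Flat (pullback.diagonal k) := property_of_comp_mono @Flat _ m ‹_›
  have : LocallyOfFinitePresentation (pullback.diagonal k) := S4599.result k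
  have : IsOpenImmersion (pullback.diagonal k) := IsOpenImmersion.of_flat_of_mono _
  exact Etale.of_formallyUnramified_of_flat _

section Slice

variable {R A B : Type u} [CommRing R] [CommRing A] [CommRing B] [Algebra R A] [Algebra R B] [Algebra A B]
  [IsScalarTower R A B] {n : ℕ}

/-- Slicing: if `A[x] ⟶ B` is étale and `D` is étale over `R`, then `Spec B ×_𝔸 Spec D ⟶ Spec A`
is étale. -/
theorem etale_slice (b : Fin n → B) (hb : (MvPolynomial.aeval (R := A) b).toRingHom.Etale)
    {D : Type u} [CommRing D] [Algebra R D] [Algebra.Etale R D] (c : Fin n → D) :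
    Etale (pullback.fst (Spec.map (CommRingCat.ofHom (MvPolynomial.aeval (R := R) b).toRingHom))
      (Spec.map (CommRingCat.ofHom (MvPolynomial.aeval (R := R) c).toRingHom)) ≫
        Spec.map (CommRingCat.ofHom (algebraMap A B))) := by
  let : Algebra (MvPolynomial (Fin n) R) (MvPolynomial (Fin n) A) := MvPolynomial.algebraMvPolynomial
  let MR := MvPolynomial (Fin n) R
  let MA := MvPolynomial (Fin n) A
  let φ : Spec (CommRingCat.of B) ⟶ Spec (CommRingCat.of MA) :=
    Spec.map (CommRingCat.ofHom (MvPolynomial.aeval (R := A) b).toRingHom)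
  have : Etale φ := by
    rw [HasRingHomProperty.Spec_iff (P := @Etale)]
    exact hb
  let pr : Spec (CommRingCat.of MA) ⟶ Spec (CommRingCat.of MR) :=
    Spec.map (CommRingCat.ofHom (algebraMap MR MA))
  let st : Spec (CommRingCat.of MA) ⟶ Spec (CommRingCat.of A) :=
    Spec.map (CommRingCat.ofHom (algebraMap A MA))
  let α := Spec.map (CommRingCat.ofHom (MvPolynomial.aeval (R := R) b).toRingHom)
  let d := Spec.map (CommRingCat.ofHom (MvPolynomial.aeval (R := R) c).toRingHom)
  have hα : α = φ ≫ pr := by
    rw [← Spec.map_comp, ← CommRingCat.ofHom_comp]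
    refine congrArg (fun r => Spec.map (CommRingCat.ofHom r)) ?_
    refine MvPolynomial.ringHom_ext (fun r => ?_) fun i => ?_
    · show MvPolynomial.aeval (R := R) b (MvPolynomial.C r) =
        MvPolynomial.aeval (R := A) b (MvPolynomial.map (algebraMap R A) (MvPolynomial.C r))
      rw [MvPolynomial.map_C, MvPolynomial.aeval_C, MvPolynomial.aeval_C, ← IsScalarTower.algebraMap_apply]
    · show MvPolynomial.aeval (R := R) b (MvPolynomial.X i) =
        MvPolynomial.aeval (R := A) b (MvPolynomial.map (algebraMap R A) (MvPolynomial.X i))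
      rw [MvPolynomial.map_X, MvPolynomial.aeval_X, MvPolynomial.aeval_X]
  have hσ : Spec.map (CommRingCat.ofHom (algebraMap A B)) = φ ≫ st := by
    rw [← Spec.map_comp, ← CommRingCat.ofHom_comp]
    refine congrArg (fun r => Spec.map (CommRingCat.ofHom r)) ?_
    exact (MvPolynomial.aeval (R := A) b).comp_algebraMap.symm
  let sR : Spec (CommRingCat.of MR) ⟶ Spec (CommRingCat.of R) :=
    Spec.map (CommRingCat.ofHom (algebraMap R MR))
  have hbase : IsPullback st pr (Spec.map (CommRingCat.ofHom (algebraMap R A))) sR :=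
    isPullback_SpecMap_of_isPushout _ _ _ _ (CommRingCat.isPushout_of_isPushout R A MR MA)
  -- `Spec MA ×_𝔸 Spec D ⟶ Spec A` is étale
  have hD : Etale (d ≫ sR) := by
    rw [← Spec.map_comp, HasRingHomProperty.Spec_iff (P := @Etale)]
    have : (CommRingCat.ofHom (algebraMap R MR) ≫
        CommRingCat.ofHom (MvPolynomial.aeval (R := R) c).toRingHom).hom = algebraMap R D :=
      (MvPolynomial.aeval (R := R) c).comp_algebraMap
    rw [this, RingHom.etale_algebraMap]
    infer_instance
  have hF : Etale (pullback.fst pr d ≫ st) := MorphismProperty.of_isPullback (P := @Etale)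
    ((IsPullback.of_hasPullback pr d).flip.paste_vert hbase.flip) hD
  have hsq : IsPullback (pullback.fst (φ ≫ pr) d) (pullback.map (φ ≫ pr) d pr d φ (𝟙 _) (𝟙 _)
      (Category.comp_id _) (by simp)) φ (pullback.fst pr d) := by
    refine IsPullback.of_bot ?_ (pullback.lift_fst _ _ _).symm (IsPullback.of_hasPullback pr d)
    rw [pullback.lift_snd, Category.comp_id]
    exact IsPullback.of_hasPullback (φ ≫ pr) d
  show Etale (pullback.fst α d ≫ _)
  rw [hσ]
  clear_value α
  subst hα
  rw [← Category.assoc, hsq.w, Category.assoc]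
  have : Etale (pullback.map (φ ≫ pr) d pr d φ (𝟙 _) (𝟙 _) (Category.comp_id _) (by simp)) :=
    MorphismProperty.of_isPullback (P := @Etale) hsq inferInstance
  infer_instance

end Slice

end Groth.Agent.SliceLib
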