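import Groth.Agent.SliceLib.Scheme

/-! # A slice through a point of a smooth pregroupoid -/

set_option backward.isDefEq.respectTransparency false
set_option backward.isDefEq.respectTransparency.types false

universe u

open CategoryTheory CategoryTheory.Limits AlgebraicGeometry

namespace Groth.Agent.SliceLib

/-- For a smooth `s : R ⟶ U` such that `(t, s)` is jointly monic there is, through every point of `R`,
a `U`-scheme `W` whose base change along `t` is étale over `U` near a point over the image. -/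
theorem exists_slice_scheme {U R : Scheme.{u}} (t s : R ⟶ U) [Smooth s]
    (hmono : ∀ {T : Scheme.{u}} (h₁ h₂ : T ⟶ R), h₁ ≫ t = h₂ ≫ t → h₁ ≫ s = h₂ ≫ s → h₁ = h₂)
    (r : R) :
    ∃ (W : Scheme.{u}) (w : W ⟶ U) (E : (pullback w t).Opens) (z : ↥(pullback w t)),
      LocallyOfFinitePresentation w ∧ z ∈ E ∧ (pullback.snd w t ≫ s) z = s r ∧
        Etale (E.ι ≫ pullback.snd w t ≫ s) := by
  classical
  obtain ⟨V, hV, hsV, -⟩ := exists_isAffineOpen_mem_and_subset (U := (⊤ : U.Opens)) (x := s r) trivial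
  obtain ⟨V', hV', htV, -⟩ := exists_isAffineOpen_mem_and_subset (U := (⊤ : U.Opens)) (x := t r) trivial
  obtain ⟨B, hB, hrB, hBle⟩ :=
    exists_isAffineOpen_mem_and_subset (U := s ⁻¹ᵁ V ⊓ t ⁻¹ᵁ V') (x := r) ⟨hsV, htV⟩
  have es : B ≤ s ⁻¹ᵁ V := fun x hx => (hBle hx).1
  have et : B ≤ t ⁻¹ᵁ V' := fun x hx => (hBle hx).2
  let σ := s.appLE V B es
  let τ := t.appLE V' B et
  let : Algebra Γ(U, V) Γ(R, B) := σ.hom.toAlgebra
  have : Algebra.Smooth Γ(U, V) Γ(R, B) := s.smooth_appLE hV hB es
  have hepi : ∀ (C : Type u) [CommRing C] (h₁ h₂ : Γ(R, B) →+* C),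
      h₁.comp (algebraMap Γ(U, V) Γ(R, B)) = h₂.comp (algebraMap Γ(U, V) Γ(R, B)) →
        h₁.comp τ.hom = h₂.comp τ.hom → h₁ = h₂ := by
    intro C _ h₁ h₂ e₁ e₂
    have e₁' : σ ≫ CommRingCat.ofHom h₁ = σ ≫ CommRingCat.ofHom h₂ := CommRingCat.hom_ext e₁
    have e₂' : τ ≫ CommRingCat.ofHom h₁ = τ ≫ CommRingCat.ofHom h₂ := CommRingCat.hom_ext e₂
    have := hmono (Spec.map (CommRingCat.ofHom h₁) ≫ hB.fromSpec)
      (Spec.map (CommRingCat.ofHom h₂) ≫ hB.fromSpec)
      (by simp only [Category.assoc, ← IsAffineOpen.SpecMap_appLE_fromSpec t hV' hB et,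
        ← Spec.map_comp_assoc]; exact congrArg (fun m => Spec.map m ≫ hV'.fromSpec) e₂')
      (by simp only [Category.assoc, ← IsAffineOpen.SpecMap_appLE_fromSpec s hV hB es,
        ← Spec.map_comp_assoc]; exact congrArg (fun m => Spec.map m ≫ hV.fromSpec) e₁')
    exact congrArg CommRingCat.Hom.hom (Spec.map_injective ((cancel_mono hB.fromSpec).1 this))
  let q := (hB.primeIdealOf ⟨r, hrB⟩).asIdeal
  have : q.IsPrime := (hB.primeIdealOf ⟨r, hrB⟩).2
  obtain ⟨g, hg, n, a, hφ⟩ := exists_etale_coordinates τ.hom hepi q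
  let B' := Localization.Away g
  let q' : Ideal B' := q.map (algebraMap Γ(R, B) B')
  have hdisj : Disjoint (Submonoid.powers g : Set Γ(R, B)) (q : Set Γ(R, B)) :=
    (Ideal.disjoint_powers_iff_notMem_of_isPrime _).2 hg
  have : q'.IsPrime := IsLocalization.isPrime_of_isPrime_disjoint (.powers g) _ q inferInstance hdisj
  have hq' : q'.comap (algebraMap Γ(R, B) B') = q :=
    IsLocalization.under_map_of_isPrime_disjoint (.powers g) _ inferInstance hdisj
  let b : Fin n → B' := fun i => algebraMap Γ(R, B) B' (τ (a i))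
  obtain ⟨D, _, _, c, hD, Ω, _, ρ, ψ, hc, hker⟩ := exists_slice b hφ q'
  let Z := ZZ.{u}
  let ι₀ : ∀ (C : Type u) [CommRing C], Z →+* C := fun C _ =>
    (Int.castRingHom C).comp ZZ.equiv.toRingHom
  let : Algebra Z Γ(U, V) := (ι₀ _).toAlgebra
  let : Algebra Z Γ(U, V') := (ι₀ _).toAlgebra
  let : Algebra Z B' := (ι₀ _).toAlgebra
  have : IsScalarTower Z Γ(U, V) B' :=
    IsScalarTower.of_algebraMap_eq' (ZZ.hom_ext _ _)
  let αB : Spec (CommRingCat.of B') ⟶ Spec (CommRingCat.of (MvPolynomial (Fin n) Z)) :=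
    Spec.map (CommRingCat.ofHom (MvPolynomial.aeval (R := Z) b).toRingHom)
  let αA : Spec Γ(U, V') ⟶ Spec (CommRingCat.of (MvPolynomial (Fin n) Z)) :=
    Spec.map (CommRingCat.ofHom (MvPolynomial.aeval (R := Z) a).toRingHom)
  let d : Spec (CommRingCat.of D) ⟶ Spec (CommRingCat.of (MvPolynomial (Fin n) Z)) :=
    Spec.map (CommRingCat.ofHom (MvPolynomial.aeval (R := Z) c).toRingHom)
  have hd : LocallyOfFinitePresentation d := by
    rw [HasRingHomProperty.Spec_iff (P := @LocallyOfFinitePresentation)]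
    refine RingHom.FinitePresentation.of_comp_finiteType (algebraMap Z (MvPolynomial (Fin n) Z)) ?_
      (RingHom.finiteType_algebraMap.2 inferInstance)
    have he : ((CommRingCat.ofHom (MvPolynomial.aeval (R := Z) c).toRingHom).hom).comp
        (algebraMap Z (MvPolynomial (Fin n) Z)) = algebraMap Z D :=
      (MvPolynomial.aeval (R := Z) c).comp_algebraMap
    rw [he]
    exact RingHom.finitePresentation_algebraMap.2 inferInstance
  let τg : Spec (CommRingCat.of B') ⟶ Spec Γ(U, V') :=
    Spec.map (τ ≫ CommRingCat.ofHom (algebraMap Γ(R, B) B'))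
  have hα : αB = τg ≫ αA := by
    rw [← Spec.map_comp]
    refine congrArg Spec.map (CommRingCat.hom_ext (MvPolynomial.ringHom_ext (fun x => ?_) fun i => ?_))
    · exact RingHom.congr_fun (ZZ.hom_ext
        ((MvPolynomial.aeval (R := Z) b).toRingHom.comp MvPolynomial.C)
        ((((algebraMap Γ(R, B) B').comp τ.hom).comp (MvPolynomial.aeval (R := Z) a).toRingHom).comp
          MvPolynomial.C)) x
    · show MvPolynomial.aeval (R := Z) b (MvPolynomial.X i) =
        algebraMap Γ(R, B) B' (τ (MvPolynomial.aeval (R := Z) a (MvPolynomial.X i)))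
      rw [MvPolynomial.aeval_X, MvPolynomial.aeval_X]
  let W := pullback αA d
  let w : W ⟶ U := pullback.fst αA d ≫ hV'.fromSpec
  let iX : Spec (CommRingCat.of B') ⟶ R :=
    Spec.map (CommRingCat.ofHom (algebraMap Γ(R, B) B')) ≫ hB.fromSpec
  have hiX : IsOpenImmersion iX := inferInstance
  have hit : iX ≫ t = τg ≫ hV'.fromSpec := by
    rw [Category.assoc, ← IsAffineOpen.SpecMap_appLE_fromSpec t hV' hB et, ← Spec.map_comp_assoc]
  have his : iX ≫ s = Spec.map (CommRingCat.ofHom (algebraMap Γ(U, V) B')) ≫ hV.fromSpec := by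
    rw [Category.assoc, ← IsAffineOpen.SpecMap_appLE_fromSpec s hV hB es, ← Spec.map_comp_assoc]
    rfl
  -- the piece of the base change
  have hαw : (pullback.fst αB d ≫ τg) ≫ αA = pullback.snd αB d ≫ d := by
    rw [Category.assoc, ← hα, pullback.condition]
  let eW : pullback αB d ⟶ W := pullback.lift (pullback.fst αB d ≫ τg) (pullback.snd αB d) hαw
  have sq₀ : IsPullback eW (pullback.fst αB d) (pullback.fst αA d) τg := by
    refine IsPullback.of_right ?_ (pullback.lift_fst _ _ _) (IsPullback.of_hasPullback αA d).flip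
    rw [pullback.lift_snd, ← hα]
    exact (IsPullback.of_hasPullback αB d).flip
  have sqm : IsPullback τg (𝟙 _) hV'.fromSpec (τg ≫ hV'.fromSpec) :=
    ⟨⟨by rw [Category.id_comp]⟩, ⟨PullbackCone.IsLimit.mk _ (fun s' => s'.snd)
      (fun s' => by rw [← cancel_mono hV'.fromSpec, Category.assoc]; exact s'.condition.symm)
      (fun s' => Category.comp_id _) (fun s' l _ h₂ => by simpa using h₂)⟩⟩
  have sq₁ : IsPullback eW (pullback.fst αB d) w (iX ≫ t) := by
    have := sq₀.paste_vert sqm
    rw [Category.comp_id, ← hit] at this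
    exact this
  let k : pullback αB d ⟶ pullback w t :=
    pullback.lift eW (pullback.fst αB d ≫ iX) (by rw [Category.assoc]; exact sq₁.w)
  have sqk : IsPullback k (pullback.fst αB d) (pullback.snd w t) iX := by
    refine IsPullback.of_right ?_ (pullback.lift_snd _ _ _) (IsPullback.of_hasPullback w t)
    rw [pullback.lift_fst]
    exact sq₁
  have hk : IsOpenImmersion k := MorphismProperty.of_isPullback (P := @IsOpenImmersion) sqk.flip hiX
  have hks : k ≫ pullback.snd w t ≫ s =
      (pullback.fst αB d ≫ Spec.map (CommRingCat.ofHom (algebraMap Γ(U, V) B'))) ≫ hV.fromSpec := by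
    rw [← Category.assoc, pullback.lift_snd, Category.assoc, his, Category.assoc]
  have het : Etale (k ≫ pullback.snd w t ≫ s) := by
    rw [hks]
    have : Etale (pullback.fst αB d ≫ Spec.map (CommRingCat.ofHom (algebraMap Γ(U, V) B'))) :=
      etale_slice b hφ c
    infer_instance
  -- the point
  have hagree : Spec.map (CommRingCat.ofHom ρ) ≫ αB = Spec.map (CommRingCat.ofHom ψ) ≫ d := by
    rw [← Spec.map_comp, ← Spec.map_comp]
    refine congrArg Spec.map (CommRingCat.hom_ext (MvPolynomial.ringHom_ext (fun x => ?_) fun i => ?_))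
    · exact RingHom.congr_fun (ZZ.hom_ext
        ((ρ.comp (MvPolynomial.aeval (R := Z) b).toRingHom).comp MvPolynomial.C)
        ((ψ.comp (MvPolynomial.aeval (R := Z) c).toRingHom).comp MvPolynomial.C)) x
    · show ρ (MvPolynomial.aeval (R := Z) b (MvPolynomial.X i)) =
        ψ (MvPolynomial.aeval (R := Z) c (MvPolynomial.X i))
      rw [MvPolynomial.aeval_X, MvPolynomial.aeval_X]
      exact (hc i).symm
  let e := pullback.lift (f := αB) (g := d) _ _ hagree
  let pt : ↥(Spec (CommRingCat.of Ω)) := IsLocalRing.closedPoint Ω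
  refine ⟨W, w, k.opensRange, k (e pt), inferInstance, ⟨_, rfl⟩, ?_, ?_⟩
  · rw [← Scheme.Hom.comp_apply, hks, ← Scheme.Hom.comp_apply, ← Category.assoc, ← Category.assoc,
      pullback.lift_fst, Scheme.Hom.comp_apply, ← Spec.map_comp, ← CommRingCat.ofHom_comp]
    refine Eq.trans ?_ (hV.fromSpec_primeIdealOf ⟨s r, hsV⟩)
    congr 1
    refine PrimeSpectrum.ext ?_
    have h1 : (hV.primeIdealOf ⟨s r, hsV⟩) = Spec.map σ (hB.primeIdealOf ⟨r, hrB⟩) := by
      apply hV.fromSpec.isOpenEmbedding.injective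
      rw [hV.fromSpec_primeIdealOf, ← Scheme.Hom.comp_apply,
        IsAffineOpen.SpecMap_appLE_fromSpec s hV hB es, Scheme.Hom.comp_apply, hB.fromSpec_primeIdealOf]
    rw [h1]
    show Ideal.comap (ρ.comp (algebraMap Γ(U, V) B')) (IsLocalRing.maximalIdeal Ω) = Ideal.comap σ.hom q
    rw [IsLocalRing.maximalIdeal_eq_bot, ← RingHom.ker_eq_comap_bot, hker]
    rw [show (algebraMap Γ(U, V) B') = (algebraMap Γ(R, B) B').comp σ.hom from rfl, ← Ideal.comap_comap,
      hq']
  · rw [show k.opensRange.ι = k.isoOpensRange.inv ≫ k by simp, Category.assoc]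
    infer_instance

end Groth.Agent.SliceLib
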